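import Groth.Agent.ResProp.EF.K187.OneStepHopf
import Groth.Agent.ResProp.EF.K942.Trans

/-!
# Existence of one step extensions (J7): `Grp.HasOneStep`
-/

set_option autoImplicit false

universe u

namespace Groth.Agent.ResProp.EF.K187

open Groth.Agent.ResProp.EF.Grp

/-- J7: every group over a domain of characteristic zero has all one step extensions. -/
theorem hasOneStep {k : Type u} [CommRing k] [IsDomain k] [CharZero k] (E : Gp k) : HasOneStep E :=
  K942.hasOneStep_of_core (core k) E

/-- the same over `ℤ_(p)` -/
theorem hasOneStep_isLb {k : Type u} [CommRing k] (p : ℕ) [h : IsLb p k] (E : Gp k) : HasOneStep E :=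
  haveI := h.dom
  haveI := h.char0
  hasOneStep E

end Groth.Agent.ResProp.EF.K187
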