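import Groth.Agent.ResProp.EF.K187.OneStepPt
import Mathlib.RingTheory.Localization.FractionRing
import Mathlib.RingTheory.Bialgebra.Hom

/-!
# The Hopf algebra of a one step extension (helper187, J7): `K942.Core k`
-/

set_option autoImplicit false

open TensorProduct WithConv

universe u

noncomputable section

namespace Groth.Agent.ResProp.EF.K187

open Groth.Agent.ResProp.EF.K942 Groth.Agent.ResProp.EF.Grp Groth.Agent.ResProp.EF

section nat
variable {k A : Type u} [CommRing k] [CommRing A] [HopfAlgebra k A] {I : Type u} [Fintype I] [DecidableEq I]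
variable (D : Coord k A I) {R : Type u} [CommRing R] [Algebra k R] {S : Type u} [CommRing S] [Algebra k S]

theorem zz_mem (g h : WithConv (A →ₐ[k] R)) (i : I) : zz D g h i ∈ K785.natI R :=
  K785.map_mem_natI (at2 g.ofConv h.ofConv).toRingHom (D.nat_z i)

theorem mulVec_mem (M : Matrix I I R) {y : I → R} (hy : ∀ i, y i ∈ K785.natI R) (i : I) :
    Matrix.mulVec M y i ∈ K785.natI R :=
  Ideal.sum_mem _ fun j _ => Ideal.mul_mem_left _ _ (hy j)

theorem isN_mul {p q : Pt D R} (hp : p.IsN) (hq : q.IsN) : (p * q).IsN := fun i =>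
  Ideal.sub_mem _ (Ideal.add_mem _ (hp i) (mulVec_mem _ hq i)) (zz_mem D _ _ i)

theorem isN_one : (1 : Pt D R).IsN := fun i => zz_mem D _ _ i

theorem isN_inv {p : Pt D R} (hp : p.IsN) : (p⁻¹).IsN := fun i =>
  Ideal.sub_mem _ (Ideal.add_mem _ (zz_mem D _ _ i) (zz_mem D _ _ i)) (mulVec_mem _ hp i)

theorem isN_map (φ : R →ₐ[k] S) {p : Pt D R} (hp : p.IsN) : (Pt.map D φ p).IsN := fun i =>
  K785.map_mem_natI φ.toRingHom (hp i)

end nat

section tf
variable {k : Type u} [CommRing k] [IsDomain k] [CharZero k]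

theorem tfree_of_free (M : Type u) [CommRing M] [Algebra k M] [Module.Free k M] : TFree M := by
  intro n hn x y h
  have h1 : (n : k) • x = (n : k) • y := by
    simpa only [Nat.cast_smul_eq_nsmul] using h
  have h2 : (n : k) ≠ 0 := Nat.cast_ne_zero.2 hn
  have h3 : Module.IsTorsionFree k M := inferInstance
  exact smul_right_injective M h2 h1

theorem tf' {R : Type u} [CommRing R] (h : TFree R) : ∀ (n : ℕ), n ≠ 0 → ∀ x : R, (n : R) * x = 0 → x = 0 := by
  intro n hn x hx
  apply h n hn
  change n • x = n • (0 : R)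
  rw [nsmul_eq_mul, hx, smul_zero]

end tf

section univ
variable {k A : Type u} [CommRing k] [IsDomain k] [CharZero k] [CommRing A] [HopfAlgebra k A] [Module.Free k A]
  {I : Type u} [Fintype I] [DecidableEq I]
variable (D : Coord k A I)

instance : CharZero (FractionRing k) :=
  charZero_of_injective_algebraMap (IsFractionRing.injective k (FractionRing k))

/-- the ring `A ⊗ Γ` -/
def BB (_ : Coord k A I) : Type u := A ⊗[k] (K785.Dpw k (FractionRing k) I)

instance : CommRing (BB D) := inferInstanceAs (CommRing (A ⊗[k] (K785.Dpw k (FractionRing k) I)))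
instance : Algebra k (BB D) := inferInstanceAs (Algebra k (A ⊗[k] (K785.Dpw k (FractionRing k) I)))
instance : Module.Free k (BB D) := inferInstanceAs (Module.Free k (A ⊗[k] (K785.Dpw k (FractionRing k) I)))

/-- the inclusion of `A` -/
def inc : A →ₐ[k] BB D := (Algebra.TensorProduct.includeLeft : A →ₐ[k] A ⊗[k] (K785.Dpw k (FractionRing k) I))

/-- the universal point -/
def uu : Pt D (BB D) where
  g := toConv (inc D)
  y i := (Algebra.TensorProduct.includeRight : _ →ₐ[k] A ⊗[k] (K785.Dpw k (FractionRing k) I))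
    (K785.dX k (FractionRing k) i)

theorem uu_isN : (uu D).IsN := fun i =>
  K785.map_mem_natI (Algebra.TensorProduct.includeRight : _ →ₐ[k] A ⊗[k] (K785.Dpw k (FractionRing k) I)).toRingHom
    (K785.dX_mem_natI i)

variable {R : Type u} [CommRing R] [Algebra k R]

theorem hom_ext (hR : TFree R) {f f' : BB D →ₐ[k] R} (h : Pt.map D f (uu D) = Pt.map D f' (uu D)) : f = f' := by
  have hg : f.comp (inc D) = f'.comp (inc D) := congrArg (fun p => (Pt.g p).ofConv) h
  have hy : ∀ i, f ((uu D).y i) = f' ((uu D).y i) := fun i => congrFun (congrArg Pt.y h) i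
  refine Algebra.TensorProduct.ext (A := A) (B := K785.Dpw k (FractionRing k) I) hg ?_
  exact K785.Dpw_hom_ext (tf' hR) hy

theorem exists_lift (hR : TFree R) (p : Pt D R) (hp : p.IsN) : ∃ f : BB D →ₐ[k] R, Pt.map D f (uu D) = p := by
  obtain ⟨f₂, hf₂⟩ := K785.exists_lift (k := k) (K := FractionRing k) (tf' hR) p.y hp
  refine ⟨(Algebra.TensorProduct.productMap p.g.ofConv f₂ : A ⊗[k] (K785.Dpw k (FractionRing k) I) →ₐ[k] R), ?_⟩
  apply Pt.ext
  · apply WithConv.ofConv_injective
    ext a
    change Algebra.TensorProduct.productMap p.g.ofConv f₂ (a ⊗ₜ[k] 1) = p.g.ofConv a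
    simp
  · funext i
    change Algebra.TensorProduct.productMap p.g.ofConv f₂ (1 ⊗ₜ[k] _) = p.y i
    rw [Algebra.TensorProduct.productMap_apply_tmul, map_one, one_mul, hf₂]

/-- the map with given point -/
def lft (hR : TFree R) (p : Pt D R) (hp : p.IsN) : BB D →ₐ[k] R := (exists_lift D hR p hp).choose

theorem map_lft (hR : TFree R) (p : Pt D R) (hp : p.IsN) : Pt.map D (lft D hR p hp) (uu D) = p :=
  (exists_lift D hR p hp).choose_spec

/-! ### the Hopf algebra -/

abbrev B2 := (BB D) ⊗[k] (BB D)
abbrev inl' : BB D →ₐ[k] B2 D := Algebra.TensorProduct.includeLeft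
abbrev inr' : BB D →ₐ[k] B2 D := Algebra.TensorProduct.includeRight

/-- comultiplication -/
def cm : BB D →ₐ[k] B2 D := lft D (tfree_of_free (k := k) _) (Pt.map D (inl' D) (uu D) * Pt.map D (inr' D) (uu D))
  (isN_mul D (isN_map D _ (uu_isN D)) (isN_map D _ (uu_isN D)))

theorem map_cm : Pt.map D (cm D) (uu D) = Pt.map D (inl' D) (uu D) * Pt.map D (inr' D) (uu D) := map_lft D _ _ _

/-- counit -/
def cu : BB D →ₐ[k] k := lft D (tfree_of_free (k := k) k) 1 (isN_one D)

theorem map_cu : Pt.map D (cu D) (uu D) = 1 := map_lft D _ _ _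

/-- antipode -/
def ai : BB D →ₐ[k] BB D := lft D (tfree_of_free (k := k) _) (uu D)⁻¹ (isN_inv D (uu_isN D))

theorem map_ai : Pt.map D (ai D) (uu D) = (uu D)⁻¹ := map_lft D _ _ _

theorem map_comp_cm (φ : B2 D →ₐ[k] R) :
    Pt.map D (φ.comp (cm D)) (uu D) = Pt.map D (φ.comp (inl' D)) (uu D) * Pt.map D (φ.comp (inr' D)) (uu D) := by
  rw [← Pt.map_map, map_cm, map_mul, Pt.map_map, Pt.map_map]

theorem coassoc : (Algebra.TensorProduct.assoc k k k (BB D) (BB D) (BB D)).toAlgHom.comp
      ((Algebra.TensorProduct.map (cm D) (.id k (BB D))).comp (cm D))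
      = (Algebra.TensorProduct.map (.id k (BB D)) (cm D)).comp (cm D) := by
  apply hom_ext D (tfree_of_free (k := k) _)
  rw [← AlgHom.comp_assoc, map_comp_cm, map_comp_cm]
  have e1 : ((Algebra.TensorProduct.assoc k k k (BB D) (BB D) (BB D)).toAlgHom.comp
      (Algebra.TensorProduct.map (cm D) (.id k (BB D)))).comp (inl' D) =
      ((Algebra.TensorProduct.assoc k k k (BB D) (BB D) (BB D)).toAlgHom.comp
        Algebra.TensorProduct.includeLeft).comp (cm D) := by
    apply AlgHom.ext; intro x; simp
  have e2 : ((Algebra.TensorProduct.assoc k k k (BB D) (BB D) (BB D)).toAlgHom.comp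
      (Algebra.TensorProduct.map (cm D) (.id k (BB D)))).comp (inr' D) =
      (Algebra.TensorProduct.includeRight : B2 D →ₐ[k] _).comp (inr' D) := by
    apply AlgHom.ext; intro x; simp [Algebra.TensorProduct.one_def]
  have e3 : (Algebra.TensorProduct.map (.id k (BB D)) (cm D)).comp (inl' D) =
      (Algebra.TensorProduct.includeLeft : BB D →ₐ[k] (BB D) ⊗[k] (B2 D)) := by
    apply AlgHom.ext; intro x; simp
  have e4 : (Algebra.TensorProduct.map (.id k (BB D)) (cm D)).comp (inr' D) =
      (Algebra.TensorProduct.includeRight : B2 D →ₐ[k] (BB D) ⊗[k] (B2 D)).comp (cm D) := by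
    apply AlgHom.ext; intro x; simp
  have e5 : ((Algebra.TensorProduct.assoc k k k (BB D) (BB D) (BB D)).toAlgHom.comp
        Algebra.TensorProduct.includeLeft).comp (inl' D) =
      (Algebra.TensorProduct.includeLeft : BB D →ₐ[k] (BB D) ⊗[k] (B2 D)) := by
    apply AlgHom.ext; intro x; simp [Algebra.TensorProduct.one_def]
  have e6 : ((Algebra.TensorProduct.assoc k k k (BB D) (BB D) (BB D)).toAlgHom.comp
        Algebra.TensorProduct.includeLeft).comp (inr' D) =
      (Algebra.TensorProduct.includeRight : B2 D →ₐ[k] (BB D) ⊗[k] (B2 D)).comp (inl' D) := by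
    apply AlgHom.ext; intro x; simp
  rw [e1, e2, e3, e4, map_comp_cm, map_comp_cm, e5, e6, mul_assoc]

theorem rT : (Algebra.TensorProduct.map (cu D) (.id k (BB D))).comp (cm D)
      = (Algebra.TensorProduct.lid k (BB D)).symm := by
  apply hom_ext D (tfree_of_free (k := k) _)
  rw [map_comp_cm]
  have e1 : (Algebra.TensorProduct.map (cu D) (.id k (BB D))).comp (inl' D) =
      (Algebra.ofId k (k ⊗[k] BB D)).comp (cu D) := by
    apply AlgHom.ext; intro x
    simp [Algebra.ofId_apply, Algebra.TensorProduct.algebraMap_apply]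
  have e2 : (Algebra.TensorProduct.map (cu D) (.id k (BB D))).comp (inr' D) =
      (Algebra.TensorProduct.lid k (BB D)).symm := by
    apply AlgHom.ext; intro x; simp
  rw [e1, e2, ← Pt.map_map, map_cu, map_one, one_mul]

theorem lT : (Algebra.TensorProduct.map (.id k (BB D)) (cu D)).comp (cm D)
      = (Algebra.TensorProduct.rid k k (BB D)).symm := by
  apply hom_ext D (tfree_of_free (k := k) _)
  rw [map_comp_cm]
  have e1 : (Algebra.TensorProduct.map (.id k (BB D)) (cu D)).comp (inr' D) =
      (Algebra.ofId k (BB D ⊗[k] k)).comp (cu D) := by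
    apply AlgHom.ext; intro x
    simp only [AlgHom.comp_apply, Algebra.TensorProduct.includeRight_apply, Algebra.TensorProduct.map_tmul,
      map_one, Algebra.ofId_apply, Algebra.TensorProduct.algebraMap_apply]
    rw [Algebra.algebraMap_eq_smul_one, TensorProduct.smul_tmul, smul_eq_mul, mul_one]
  have e2 : (Algebra.TensorProduct.map (.id k (BB D)) (cu D)).comp (inl' D) =
      ((Algebra.TensorProduct.rid k k (BB D)).symm : BB D →ₐ[k] BB D ⊗[k] k) := by
    apply AlgHom.ext; intro x; simp
  rw [e1, e2, ← Pt.map_map, map_cu, map_one, mul_one]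

instance instBialg : Bialgebra k (BB D) := Bialgebra.ofAlgHom (cm D) (cu D) (coassoc D) (rT D) (lT D)

theorem comul_eq (x : BB D) : Coalgebra.comul (R := k) x = cm D x := rfl
theorem counit_eq (x : BB D) : Coalgebra.counit (R := k) x = cu D x := rfl

theorem anti_left : (Algebra.TensorProduct.lmul' k).comp ((Algebra.TensorProduct.map (ai D) (.id k (BB D))).comp (cm D))
    = (Algebra.ofId k (BB D)).comp (cu D) := by
  apply hom_ext D (tfree_of_free (k := k) _)
  rw [← AlgHom.comp_assoc, map_comp_cm]
  have e1 : ((Algebra.TensorProduct.lmul' k).comp (Algebra.TensorProduct.map (ai D) (.id k (BB D)))).comp (inl' D) =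
      ai D := by
    apply AlgHom.ext; intro x; simp
  have e2 : ((Algebra.TensorProduct.lmul' k).comp (Algebra.TensorProduct.map (ai D) (.id k (BB D)))).comp (inr' D) =
      AlgHom.id k (BB D) := by
    apply AlgHom.ext; intro x; simp
  rw [e1, e2, map_ai, Pt.map_id, inv_mul_cancel, ← Pt.map_map, map_cu, map_one]

theorem anti_right : (Algebra.TensorProduct.lmul' k).comp ((Algebra.TensorProduct.map (.id k (BB D)) (ai D)).comp (cm D))
    = (Algebra.ofId k (BB D)).comp (cu D) := by
  apply hom_ext D (tfree_of_free (k := k) _)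
  rw [← AlgHom.comp_assoc, map_comp_cm]
  have e1 : ((Algebra.TensorProduct.lmul' k).comp (Algebra.TensorProduct.map (.id k (BB D)) (ai D))).comp (inr' D) =
      ai D := by
    apply AlgHom.ext; intro x; simp
  have e2 : ((Algebra.TensorProduct.lmul' k).comp (Algebra.TensorProduct.map (.id k (BB D)) (ai D))).comp (inl' D) =
      AlgHom.id k (BB D) := by
    apply AlgHom.ext; intro x; simp
  rw [e1, e2, map_ai, Pt.map_id, mul_inv_cancel, ← Pt.map_map, map_cu, map_one]

instance instHopf : HopfAlgebra k (BB D) where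
  antipode := (ai D).toLinearMap
  mul_antipode_rTensor_comul := by
    have h : ∀ t : B2 D, LinearMap.mul' k (BB D) ((ai D).toLinearMap.rTensor (BB D) t) =
        (Algebra.TensorProduct.lmul' k) (Algebra.TensorProduct.map (ai D) (.id k (BB D)) t) := by
      intro t
      induction t using TensorProduct.induction_on with
      | zero => simp
      | tmul x y => simp
      | add x y hx hy => simp only [map_add, hx, hy]
    apply LinearMap.ext
    intro x
    exact (h _).trans (AlgHom.congr_fun (anti_left D) x)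
  mul_antipode_lTensor_comul := by
    have h : ∀ t : B2 D, LinearMap.mul' k (BB D) ((ai D).toLinearMap.lTensor (BB D) t) =
        (Algebra.TensorProduct.lmul' k) (Algebra.TensorProduct.map (.id k (BB D)) (ai D) t) := by
      intro t
      induction t using TensorProduct.induction_on with
      | zero => simp
      | tmul x y => simp
      | add x y hx hy => simp only [map_add, hx, hy]
    apply LinearMap.ext
    intro x
    exact (h _).trans (AlgHom.congr_fun (anti_right D) x)

/-- the comultiplication on `A` -/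
theorem cm_comp_inc : (cm D).comp (inc D) = (Algebra.TensorProduct.map (inc D) (inc D)).comp (Bialgebra.comulAlgHom k A) := by
  have h := congrArg (fun p => (Pt.g p).ofConv) (map_cm D)
  change (cm D).comp (inc D) = (toConv ((inl' D).comp (inc D)) * toConv ((inr' D).comp (inc D))).ofConv at h
  rw [h, ← pmul_eq]
  unfold pmul
  congr 1
  ext a <;> simp [at2]

theorem cu_comp_inc : (cu D).comp (inc D) = Bialgebra.counitAlgHom k A := by
  have h := congrArg (fun p => (Pt.g p).ofConv) (map_cu D)
  change (cu D).comp (inc D) = (1 : WithConv (A →ₐ[k] k)).ofConv at h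
  rw [h]
  ext a
  simp [AlgHom.convOne_def]

/-- the homomorphism of groups `E⁺ → E` -/
def incB : A →ₐc[k] BB D := BialgHom.ofAlgHom (inc D) (cu_comp_inc D) (cm_comp_inc D).symm

theorem incB_coe : ((incB D : A →ₐc[k] BB D) : A →ₐ[k] BB D) = inc D := rfl

theorem comul_X (i : I) : Coalgebra.comul (R := k) ((uu D).y i) =
    (uu D).y i ⊗ₜ[k] 1 + ∑ j, incB D (D.a i j) ⊗ₜ[k] (uu D).y j -
      Algebra.TensorProduct.map (incB D : A →ₐ[k] BB D) (incB D : A →ₐ[k] BB D) (D.z i) := by
  have h := congrFun (congrArg Pt.y (map_cm D)) i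
  change (cm D) ((uu D).y i) = (uu D).y i ⊗ₜ[k] 1 +
    ∑ j, (incB D (D.a i j) ⊗ₜ[k] (1 : BB D)) * ((1 : BB D) ⊗ₜ[k] (uu D).y j) -
      at2 ((inl' D).comp (inc D)) ((inr' D).comp (inc D)) (D.z i) at h
  have e : at2 ((inl' D).comp (inc D)) ((inr' D).comp (inc D)) =
      Algebra.TensorProduct.map (incB D : A →ₐ[k] BB D) (incB D : A →ₐ[k] BB D) := by
    ext a <;> simp [at2, incB_coe]
  rw [e] at h
  simp only [Algebra.TensorProduct.tmul_mul_tmul, one_mul, mul_one] at h
  exact h

theorem univB (hR : TFree R) (g : A →ₐ[k] R) (y : I → R) (hy : ∀ i, IsNat (y i)) :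
    ∃! h : BB D →ₐ[k] R, h.comp (incB D : A →ₐ[k] BB D) = g ∧ ∀ i, h ((uu D).y i) = y i := by
  have hp : (⟨toConv g, y⟩ : Pt D R).IsN := hy
  refine ⟨lft D hR ⟨toConv g, y⟩ hp, ⟨?_, ?_⟩, ?_⟩
  · exact congrArg (fun p => (Pt.g p).ofConv) (map_lft D hR ⟨toConv g, y⟩ hp)
  · intro i
    exact congrFun (congrArg Pt.y (map_lft D hR ⟨toConv g, y⟩ hp)) i
  · rintro f ⟨h1, h2⟩
    apply hom_ext D hR
    rw [map_lft]
    apply Pt.ext
    · exact congrArg toConv h1
    · exact funext h2

end univ

/-- **the core of `HasOneStep`** -/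
theorem core (k : Type u) [CommRing k] [IsDomain k] [CharZero k] : Core k := by
  intro A _ _ _ I _ _ D
  exact ⟨{ B := BB D
           ι := incB D
           X := (uu D).y
           nat_X := uu_isN D
           comul_X := comul_X D
           univ := fun R _ _ hR g y hy => univB D hR g y hy }⟩

end Groth.Agent.ResProp.EF.K187
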