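import Groth.Agent.ResProp.EF.K942.CoreIface
import Groth.Agent.ResProp.EF.K785.Dpw
import Mathlib.RingTheory.HopfAlgebra.Convolution
import Mathlib.Data.Matrix.Mul
import Mathlib.Algebra.Group.MinimalAxioms

/-!
# The group of points of a one step extension (helper187, J7)

For every commutative `k`-algebra `R` the pairs `(g, y)`, `g : A →ₐ[k] R`, `y : I → R`, form a group under
`(g, y)(g', y') = (g g', y + g y' - z(g, g'))`, functorially in `R`.
-/

set_option autoImplicit false

open TensorProduct WithConv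

universe u

noncomputable section

namespace Groth.Agent.ResProp.EF.K187

open Groth.Agent.ResProp.EF.K942 Groth.Agent.ResProp.EF.Grp

variable {k A : Type u} [CommRing k] [CommRing A] [HopfAlgebra k A] {I : Type u} [Fintype I] [DecidableEq I]

/-- pairs `(g, y)` -/
@[ext] structure Pt (D : Coord k A I) (R : Type u) [CommRing R] [Algebra k R] : Type u where
  g : WithConv (A →ₐ[k] R)
  y : I → R

section
variable (D : Coord k A I) {R : Type u} [CommRing R] [Algebra k R] {S : Type u} [CommRing S] [Algebra k S]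

/-- the matrix of a point -/
def mt (g : WithConv (A →ₐ[k] R)) : Matrix I I R := fun i j => g.ofConv (D.a i j)

/-- the cocycle at two points -/
def zz (g h : WithConv (A →ₐ[k] R)) : I → R := fun i => at2 g.ofConv h.ofConv (D.z i)

theorem pmul_eq (g h : WithConv (A →ₐ[k] R)) : pmul g.ofConv h.ofConv = (g * h).ofConv := by
  rw [AlgHom.convMul_def, ofConv_toConv, ← AlgHom.comp_assoc]
  unfold pmul at2
  congr 1
  ext a <;> simp

theorem mt_mul (g h : WithConv (A →ₐ[k] R)) : mt D (g * h) = mt D g * mt D h := by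
  ext i j
  rw [Matrix.mul_apply, mt, ← pmul_eq]
  simp only [pmul, at2, AlgHom.comp_apply, Bialgebra.comulAlgHom_apply, D.comul_a, map_sum,
    Algebra.TensorProduct.productMap_apply_tmul]
  rfl

theorem mt_one : mt D (1 : WithConv (A →ₐ[k] R)) = 1 := by
  ext i j
  change (1 : WithConv (A →ₐ[k] R)) (D.a i j) = _
  rw [AlgHom.convOne_apply, D.counit_a, Matrix.one_apply]
  split_ifs <;> simp

theorem coc (g₁ g₂ g₃ : WithConv (A →ₐ[k] R)) :
    Matrix.mulVec (mt D g₁) (zz D g₂ g₃) - zz D (g₁ * g₂) g₃ + zz D g₁ (g₂ * g₃) - zz D g₁ g₂ = 0 := by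
  funext i
  have h := D.cocycle R g₁.ofConv g₂.ofConv g₃.ofConv i
  rw [pmul_eq, pmul_eq] at h
  exact h

theorem coc' (g₁ g₂ g₃ : WithConv (A →ₐ[k] R)) :
    Matrix.mulVec (mt D g₁) (zz D g₂ g₃) + zz D g₁ (g₂ * g₃) = zz D (g₁ * g₂) g₃ + zz D g₁ g₂ := by
  have h := coc D g₁ g₂ g₃
  linear_combination h

theorem zz_one_left (g : WithConv (A →ₐ[k] R)) : zz D 1 g = zz D 1 1 := by
  have h := coc' D 1 1 g
  rw [mt_one, Matrix.one_mulVec, one_mul, one_mul] at h
  exact add_left_cancel h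

theorem zz_one_right (g : WithConv (A →ₐ[k] R)) : zz D g 1 = Matrix.mulVec (mt D g) (zz D 1 1) := by
  have h := coc' D g 1 1
  rw [mul_one, mul_one] at h
  exact (add_right_cancel h).symm

/-- the inverse point -/
def iv (g : WithConv (A →ₐ[k] R)) : WithConv (A →ₐ[k] R) :=
  toConv (g.ofConv.comp (HopfAlgebra.antipodeAlgHom k A))

theorem iv_mul (g : WithConv (A →ₐ[k] R)) : iv g * g = 1 := by
  have h := AlgHom.comp_convMul_distrib (h := g.ofConv)
    (toConv (HopfAlgebra.antipodeAlgHom k A)) (toConv (AlgHom.id k A))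
  rw [AlgHom.antipode_id_cancel] at h
  apply WithConv.ofConv_injective
  simp only [AlgHom.comp_id] at h
  rw [iv]
  change _ = (toConv (g.ofConv.comp (HopfAlgebra.antipodeAlgHom k A)) * g).ofConv at h
  rw [← h]
  ext a
  simp [AlgHom.convOne_def]

instance : Mul (Pt D R) := ⟨fun p q => ⟨p.g * q.g, p.y + Matrix.mulVec (mt D p.g) q.y - zz D p.g q.g⟩⟩
instance : One (Pt D R) := ⟨⟨1, zz D 1 1⟩⟩
instance : Inv (Pt D R) := ⟨fun p => ⟨iv p.g, zz D 1 1 + zz D (iv p.g) p.g - Matrix.mulVec (mt D (iv p.g)) p.y⟩⟩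

theorem mul_g (p q : Pt D R) : (p * q).g = p.g * q.g := rfl
theorem mul_y (p q : Pt D R) : (p * q).y = p.y + Matrix.mulVec (mt D p.g) q.y - zz D p.g q.g := rfl
theorem one_g : (1 : Pt D R).g = 1 := rfl
theorem one_y : (1 : Pt D R).y = zz D 1 1 := rfl
theorem inv_g (p : Pt D R) : (p⁻¹).g = iv p.g := rfl
theorem inv_y (p : Pt D R) : (p⁻¹).y = zz D 1 1 + zz D (iv p.g) p.g - Matrix.mulVec (mt D (iv p.g)) p.y := rfl

instance : Group (Pt D R) := Group.ofLeftAxioms
  (by
    intro p q r
    apply Pt.ext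
    · simp only [mul_g, mul_assoc]
    · simp only [mul_g, mul_y, mt_mul, Matrix.mulVec_add, Matrix.mulVec_sub, ← Matrix.mulVec_mulVec]
      have h := coc D p.g q.g r.g
      linear_combination h)
  (by
    intro p
    apply Pt.ext
    · simp only [mul_g, one_g, one_mul]
    · simp only [mul_y, one_y, one_g, mt_one, Matrix.one_mulVec, zz_one_left D p.g]
      ring)
  (by
    intro p
    apply Pt.ext
    · simp only [mul_g, inv_g, one_g, iv_mul]
    · simp only [mul_y, inv_y, inv_g, one_y]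
      ring)

theorem zz_map (φ : R →ₐ[k] S) (g h : WithConv (A →ₐ[k] R)) (i : I) :
    φ (zz D g h i) = zz D (toConv (φ.comp g.ofConv)) (toConv (φ.comp h.ofConv)) i := by
  have : (at2 (φ.comp g.ofConv) (φ.comp h.ofConv)) = φ.comp (at2 g.ofConv h.ofConv) := by
    ext a <;> simp [at2]
  rw [zz, zz, ofConv_toConv, ofConv_toConv, this]
  rfl

theorem comp_mul (φ : R →ₐ[k] S) (g h : WithConv (A →ₐ[k] R)) :
    toConv (φ.comp (g * h).ofConv) = toConv (φ.comp g.ofConv) * toConv (φ.comp h.ofConv) := by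
  rw [AlgHom.comp_convMul_distrib]

theorem comp_one (φ : R →ₐ[k] S) : toConv (φ.comp (1 : WithConv (A →ₐ[k] R)).ofConv) = 1 := by
  apply WithConv.ofConv_injective
  ext a
  simp [AlgHom.convOne_def]

/-- functoriality of points -/
def Pt.map (φ : R →ₐ[k] S) : Pt D R →* Pt D S where
  toFun p := ⟨toConv (φ.comp p.g.ofConv), fun i => φ (p.y i)⟩
  map_one' := by
    apply Pt.ext
    · exact comp_one φ
    · funext i
      change φ (zz D 1 1 i) = zz D 1 1 i
      rw [zz_map, comp_one]
  map_mul' p q := by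
    apply Pt.ext
    · exact comp_mul φ p.g q.g
    · funext i
      change φ (p.y i + ∑ j, mt D p.g i j * q.y j - zz D p.g q.g i) = _
      rw [map_sub, map_add, map_sum, zz_map]
      simp only [map_mul]
      rfl

theorem Pt.map_g (φ : R →ₐ[k] S) (p : Pt D R) : (Pt.map D φ p).g = toConv (φ.comp p.g.ofConv) := rfl
theorem Pt.map_y (φ : R →ₐ[k] S) (p : Pt D R) (i : I) : (Pt.map D φ p).y i = φ (p.y i) := rfl

theorem Pt.map_map {T : Type u} [CommRing T] [Algebra k T] (ψ : S →ₐ[k] T) (φ : R →ₐ[k] S) (p : Pt D R) :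
    Pt.map D ψ (Pt.map D φ p) = Pt.map D (ψ.comp φ) p := rfl

theorem Pt.map_id (p : Pt D R) : Pt.map D (AlgHom.id k R) p = p := rfl

/-- the points with `nat` coordinates -/
def Pt.IsN (p : Pt D R) : Prop := ∀ i, p.y i ∈ K785.natI R

end

end Groth.Agent.ResProp.EF.K187
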